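import Cfsg.Agent.S0003
import Cfsg.Agent.S0071
import Cfsg.Agent.PF14.Compose
import Cfsg.Agent.FG78.ClassNotDvdFour
import Cfsg.Agent.Lib.Dickson.Solvable
import Cfsg.Agent.InvChar.ZStarApps

/-!
# Hall numbers: common lemmas
-/

set_option autoImplicit false

namespace Cfsg.Agent.HallNum96

open Subgroup

variable {G : Type} [Group G] [Finite G]

/-- A solvable subgroup whose order is a multiple of `m` gives a subgroup of order `m`. -/
theorem hall_of_solvable (L : Subgroup G) (hL : Group.IsSolvable ↥L) {m : ℕ}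
    (hm : m ∣ Nat.card ↥L) (hco : m.Coprime (Nat.card G / m)) :
    ∃ H : Subgroup G, Nat.card H = m := by
  haveI := hL
  obtain ⟨H, hH⟩ := S0003.result (G := ↥L) m (Nat.card ↥L / m) (Nat.mul_div_cancel' hm).symm
    (hco.coprime_dvd_right (Nat.div_dvd_div hm (Subgroup.card_subgroup_dvd_card L)))
  exact ⟨H.map L.subtype, by rw [Subgroup.card_map_of_injective L.subtype_injective, hH]⟩

theorem isSolvable_of_not_four_dvd {H : Type} [Group H] [Finite H] (h : ¬ 4 ∣ Nat.card H) :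
    Group.IsSolvable H :=
  FG78.isSolvable_of_class_not_dvd_four PF14.feitThompson fun _ hx =>
    h (hx.trans (Subgroup.index_dvd_card _))

theorem isSolvable_of_odd {H : Type} [Group H] [Finite H] (h : Odd (Nat.card H)) :
    Group.IsSolvable H :=
  PF14.feitThompson H h

theorem isSolvable_of_isPGroup {H : Type} [Group H] [Finite H] {p : ℕ} [Fact p.Prime]
    (h : IsPGroup p H) : Group.IsSolvable H := by
  haveI := h.isNilpotent
  infer_instance

/-- Extensions. -/
theorem isSolvable_of_quotient {H : Type} [Group H] (N : Subgroup H) [N.Normal]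
    (hN : Group.IsSolvable ↥N) (hQ : Group.IsSolvable (H ⧸ N)) : Group.IsSolvable H := by
  haveI := hN; haveI := hQ
  exact Group.isSolvable_of_ker_le_range N.subtype (QuotientGroup.mk' N)
    (by rw [QuotientGroup.ker_mk', Subgroup.range_subtype])

/-- Without a moving element of odd order there is a normal 2-complement. -/
theorem complement_or_moving (S : Sylow 2 G) :
    (∃ N : Subgroup G, N.Normal ∧ N.IsComplement' (S : Subgroup G)) ∨
      ∃ Q : Subgroup G, Q ≤ (S : Subgroup G) ∧ ∃ g ∈ normalizer (Q : Set G),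
        Odd (orderOf g) ∧ g ∉ centralizer (Q : Set G) := by
  haveI := Fact.mk Nat.prime_two
  by_cases h : ∃ Q : Subgroup G, Q ≤ (S : Subgroup G) ∧ ∃ g ∈ normalizer (Q : Set G),
      Odd (orderOf g) ∧ g ∉ centralizer (Q : Set G)
  · exact Or.inr h
  · push Not at h
    exact Or.inl ((S0071.result S).2 fun Q hQ g hg hco =>
      h Q hQ g hg (Nat.coprime_two_right.1 hco))

theorem odd_of_complement (S : Sylow 2 G) {N : Subgroup G}
    (hN : N.IsComplement' (S : Subgroup G)) : Odd (Nat.card ↥N) := by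
  haveI := Fact.mk Nat.prime_two
  rw [← hN.index_eq_card, Nat.odd_iff]
  have := S.not_dvd_index
  omega

theorem isSolvable_of_complement (S : Sylow 2 G) {N : Subgroup G} [N.Normal]
    (hN : N.IsComplement' (S : Subgroup G)) : Group.IsSolvable G := by
  haveI := Fact.mk Nat.prime_two
  refine isSolvable_of_quotient N (isSolvable_of_odd (odd_of_complement S hN))
    (isSolvable_of_isPGroup (p := 2) ?_)
  exact S.isPGroup'.of_equiv hN.symm.QuotientMulEquiv.symm

theorem exists_moving (h : ¬ Group.IsSolvable G) (S : Sylow 2 G) :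
    ∃ Q : Subgroup G, Q ≤ (S : Subgroup G) ∧ ∃ g ∈ normalizer (Q : Set G),
        Odd (orderOf g) ∧ g ∉ centralizer (Q : Set G) := by
  rcases complement_or_moving S with ⟨N, hN, hc⟩ | h'
  · haveI := hN; exact absurd (isSolvable_of_complement S hc) h
  · exact h'

/-- An element of odd order moving a subgroup of order dividing 8. -/
theorem three_or_seven {Q : Subgroup G} (hQ : Nat.card ↥Q ∣ 8) {g : G}
    (hg : g ∈ normalizer (Q : Set G)) (ho : Odd (orderOf g)) (hgC : g ∉ centralizer (Q : Set G)) :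
    (4 ∣ Nat.card ↥Q ∧ 3 ∣ orderOf g) ∨
      (Nat.card ↥Q = 8 ∧ (∀ x ∈ Q, x ≠ 1 → g * x * g⁻¹ ≠ x) ∧
        ∀ x ∈ Q, x ≠ 1 → ∀ y ∈ Q, y ≠ 1 → ∃ n : ℕ, g ^ n * x * (g ^ n)⁻¹ = y) := by
  classical
  set σ : MulAut ↥Q := Q.normalizerMonoidHom ⟨g, hg⟩ with hσ
  have hσ1 : σ ≠ 1 := fun e => hgC (by
    have : (⟨g, hg⟩ : ↥(normalizer (Q : Set G))) ∈ Q.normalizerMonoidHom.ker := e
    rw [Subgroup.normalizerMonoidHom_ker] at this
    exact this)
  have hσo : orderOf σ ∣ orderOf g := by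
    have := orderOf_map_dvd Q.normalizerMonoidHom ⟨g, hg⟩
    rwa [Subgroup.orderOf_mk] at this
  have hσne : orderOf σ ≠ 1 := fun e => hσ1 (orderOf_eq_one_iff.1 e)
  obtain ⟨r, hr, hrσ⟩ := Nat.exists_prime_and_dvd hσne
  haveI := Fact.mk hr
  set k := orderOf σ / r with hk
  have hτo : orderOf (σ ^ k) = r := by
    rw [hk]
    exact orderOf_pow_orderOf_div (orderOf_pos σ).ne' hrσ
  have hr2 : r ≠ 2 := by
    rintro rfl
    exact (Nat.not_even_iff_odd.2 ho) (even_iff_two_dvd.2 (hrσ.trans hσo))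
  set τ := σ ^ k with hτ
  have hτapp : ∀ (n : ℕ) (x : ↥Q), ((τ ^ n) x : G) = (g ^ (k * n)) * x * (g ^ (k * n))⁻¹ := by
    intro n x
    rw [hτ, ← pow_mul, hσ, ← map_pow]
    rfl
  let F : Subgroup ↥Q := MonoidHom.eqLocus (τ : ↥Q ≃* ↥Q).toMonoidHom (MonoidHom.id ↥Q)
  have hFmem : ∀ x : ↥Q, x ∈ F ↔ τ x = x := fun x => Iff.rfl
  have hFne : F ≠ ⊤ := fun e => by
    have h1 : τ = 1 := MulEquiv.ext fun x => (hFmem x).1 (e ▸ mem_top x)
    rw [h1, orderOf_one] at hτo
    exact hr.one_lt.ne hτo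
  -- counting modulo `r`
  have hmod : Nat.card ↥Q ≡ Nat.card ↥F [MOD r] := by
    have hP : IsPGroup r ↥(zpowers τ) :=
      IsPGroup.of_card (n := 1) (by rw [Nat.card_zpowers, hτo, pow_one])
    have h1 := hP.card_modEq_card_fixedPoints ↥Q
    have he : Nat.card (MulAction.fixedPoints ↥(zpowers τ) ↥Q) = Nat.card ↥F := by
      refine Nat.card_congr (Equiv.subtypeEquivRight fun x => ?_)
      rw [hFmem, MulAction.mem_fixedPoints]
      refine ⟨fun h => h ⟨τ, mem_zpowers τ⟩, fun h => ?_⟩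
      rintro ⟨y, hy⟩
      have hst : zpowers τ ≤ MulAction.stabilizer (MulAut ↥Q) x :=
        zpowers_le.2 (MulAction.mem_stabilizer_iff.2 h)
      exact MulAction.mem_stabilizer_iff.1 (hst hy)
    rwa [he] at h1
  have hFQ : Nat.card ↥F ∣ Nat.card ↥Q := Subgroup.card_subgroup_dvd_card F
  have hFlt : Nat.card ↥F < Nat.card ↥Q := lt_of_le_of_ne (Nat.le_of_dvd Nat.card_pos hFQ)
    fun e => hFne (Subgroup.eq_top_of_card_eq F e)
  have hrdvd : r ∣ Nat.card ↥Q - Nat.card ↥F := (Nat.modEq_iff_dvd' hFlt.le).1 hmod.symm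
  have h3o : r = 3 → 3 ∣ orderOf g := fun e => e ▸ hrσ.trans hσo
  have hcases : (4 ∣ Nat.card ↥Q ∧ r = 3) ∨ (Nat.card ↥Q = 8 ∧ Nat.card ↥F = 1 ∧ r = 7) := by
    have hq : Nat.card ↥Q ∈ Nat.divisors 8 := Nat.mem_divisors.2 ⟨hQ, by norm_num⟩
    rw [show Nat.divisors 8 = {1, 2, 4, 8} by decide] at hq
    have hd : ∀ c, r ∣ c → c ∈ ({1, 2, 3, 4, 6, 7} : Finset ℕ) → (r = 3 ∧ (c = 3 ∨ c = 6)) ∨
        (r = 7 ∧ c = 7) := by
      intro c hc hmem
      simp only [Finset.mem_insert, Finset.mem_singleton] at hmem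
      have hle : r ≤ 7 := (Nat.le_of_dvd (by omega) hc).trans (by omega)
      have h2 := hr.two_le
      interval_cases r <;> first | omega | (exfalso; exact absurd hr (by norm_num))
    simp only [Finset.mem_insert, Finset.mem_singleton] at hq
    have hF4 : Nat.card ↥F ∣ 8 := hFQ.trans hQ
    have hF : Nat.card ↥F ∈ Nat.divisors 8 := Nat.mem_divisors.2 ⟨hF4, by norm_num⟩
    rw [show Nat.divisors 8 = {1, 2, 4, 8} by decide] at hF
    simp only [Finset.mem_insert, Finset.mem_singleton] at hF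
    have hmem : Nat.card ↥Q - Nat.card ↥F ∈ ({1, 2, 3, 4, 6, 7} : Finset ℕ) := by
      simp only [Finset.mem_insert, Finset.mem_singleton]; omega
    rcases hd _ hrdvd hmem with ⟨h1, h2⟩ | ⟨h1, h2⟩
    · left; exact ⟨by omega, h1⟩
    · right; omega
  rcases hcases with ⟨h4, h3⟩ | ⟨h8, hF1, h7⟩
  · exact Or.inl ⟨h4, h3o h3⟩
  right
  have hFbot : F = ⊥ := Subgroup.card_eq_one.1 hF1
  refine ⟨h8, fun x hxQ hx1 e => hx1 ?_, fun x hxQ hx1 y hyQ hy1 => ?_⟩
  · have h1 : σ ⟨x, hxQ⟩ = ⟨x, hxQ⟩ := Subtype.ext e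
    have h2 : (⟨x, hxQ⟩ : ↥Q) ∈ F := by
      rw [hFmem, hτ]
      have hst : σ ∈ MulAction.stabilizer (MulAut ↥Q) (⟨x, hxQ⟩ : ↥Q) :=
        MulAction.mem_stabilizer_iff.2 h1
      exact MulAction.mem_stabilizer_iff.1 (pow_mem hst k)
    rw [hFbot, Subgroup.mem_bot] at h2
    exact congrArg Subtype.val h2
  · subst h7
    let f : Fin 7 → {z : ↥Q // z ≠ 1} := fun i => ⟨(τ ^ (i : ℕ)) ⟨x, hxQ⟩, fun e =>
      hx1 (congrArg Subtype.val ((map_eq_one_iff (τ ^ (i : ℕ)) (MulEquiv.injective _)).1 e))⟩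
    have hinj : Function.Injective f := by
      intro i j e
      by_contra hij
      have e' : (τ ^ (i : ℕ)) ⟨x, hxQ⟩ = (τ ^ (j : ℕ)) ⟨x, hxQ⟩ := congrArg Subtype.val e
      wlog hlt : (i : ℕ) < (j : ℕ) generalizing i j with H
      · exact H e.symm (fun h => hij h.symm) e'.symm
          (lt_of_le_of_ne (not_lt.1 hlt) fun h => hij (Fin.ext h.symm))
      set d := (j : ℕ) - (i : ℕ) with hd
      have h1 : (τ ^ d) ⟨x, hxQ⟩ = ⟨x, hxQ⟩ := by
        apply (τ ^ (i : ℕ)).injective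
        rw [← MulAut.mul_apply, ← pow_add, show (i : ℕ) + d = j by omega, ← e']
      have h2 : τ ∈ zpowers (τ ^ d) := by
        obtain ⟨u, hu⟩ := exists_pow_eq_self_of_coprime (n := d) (x := τ) (by
          rw [hτo]
          exact ((Nat.Prime.coprime_iff_not_dvd hr).2
            (Nat.not_dvd_of_pos_of_lt (by omega) (by omega))).symm)
        have h4 := pow_mem (mem_zpowers (τ ^ d)) u
        rwa [hu] at h4
      have hst : zpowers (τ ^ d) ≤ MulAction.stabilizer (MulAut ↥Q) (⟨x, hxQ⟩ : ↥Q) :=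
        zpowers_le.2 h1
      have h3 : (⟨x, hxQ⟩ : ↥Q) ∈ F := (hFmem _).2 (MulAction.mem_stabilizer_iff.1 (hst h2))
      rw [hFbot, Subgroup.mem_bot] at h3
      exact hx1 (congrArg Subtype.val h3)
    have hbij : Function.Bijective f := by
      rw [Nat.bijective_iff_injective_and_card]
      refine ⟨hinj, ?_⟩
      haveI := Fintype.ofFinite ↥Q
      rw [Nat.card_eq_fintype_card] at h8
      rw [Nat.card_eq_fintype_card, Nat.card_eq_fintype_card, Fintype.card_fin,
        Fintype.card_subtype_compl, Fintype.card_subtype_eq, h8]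
    obtain ⟨i, hi⟩ := hbij.2 ⟨⟨y, hyQ⟩, fun e => hy1 (congrArg Subtype.val e)⟩
    exact ⟨k * (i : ℕ), by
      rw [← hτapp (i : ℕ) ⟨x, hxQ⟩]
      exact congrArg (fun z : {z : ↥Q // z ≠ 1} => ((z : ↥Q) : G)) hi⟩

end Cfsg.Agent.HallNum96
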