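import Cfsg.Agent.Lib.Dickson.Main
import Cfsg.Agent.ClMax99.PSLMax
import Mathlib.NumberTheory.LSeries.PrimesInAP

/-!
# Groups without subgroups of a given Hall order
-/

set_option autoImplicit false

namespace Cfsg.Agent.HallNum96

open Matrix MulAction OnePoint Dickson
open scoped MatrixGroups

attribute [local instance] Cfsg.Agent.PLocalB.lineAction pslLine

theorem exists_prime_split {a b : ℕ} (ha : 3 ≤ a) (hb : 3 ≤ b) (hab : a.Coprime b) :
    ∃ p i j : ℕ, p.Prime ∧ a * b + 5 < p ∧ p = 1 + a + a ^ 2 * i ∧ p + 1 = b + b ^ 2 * j := by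
  obtain ⟨c, hc1, hc2⟩ := Nat.chineseRemainder (n := a ^ 2) (m := b ^ 2)
    (Nat.Coprime.pow 2 2 hab) (1 + a) (b - 1)
  have hcu : c.Coprime (a ^ 2 * b ^ 2) := by
    refine Nat.Coprime.mul_right ?_ ?_
    · rw [Nat.coprime_comm, Nat.coprime_iff_gcd_eq_one] at *
      rw [Nat.gcd_comm, hc1.gcd_eq]
      exact Nat.Coprime.pow_right 2 (by simp : Nat.Coprime (1 + a) a)
    · rw [Nat.coprime_iff_gcd_eq_one, hc2.gcd_eq]
      refine Nat.Coprime.pow_right 2 ?_
      have h : Nat.Coprime (b - 1) (b - 1 + 1) := by simp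
      rwa [Nat.sub_add_cancel (by omega : 1 ≤ b)] at h
  obtain ⟨p, hp, hpp, hpc⟩ := Nat.forall_exists_prime_gt_and_modEq
    (a ^ 2 * b ^ 2 + a * b + a + b + 5) (q := a ^ 2 * b ^ 2) (by positivity) hcu
  have h1 : p ≡ 1 + a [MOD a ^ 2] := (hpc.of_dvd (Dvd.intro _ rfl)).trans hc1
  have h2 : p ≡ b - 1 [MOD b ^ 2] := (hpc.of_dvd (Dvd.intro_left _ rfl)).trans hc2
  obtain ⟨i, hi⟩ := (Nat.modEq_iff_dvd' (by omega)).1 h1.symm
  obtain ⟨j, hj⟩ := (Nat.modEq_iff_dvd' (by omega)).1 h2.symm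
  exact ⟨p, i, j, hpp, by omega, by omega, by omega⟩

/-- A number which is the product of two coprime parts that is not a Hall number. -/
theorem counterexample {m a b : ℕ} (hm : m = a * b) (hab : a.Coprime b) (ha : 3 ≤ a)
    (h4 : Even a → 4 ∣ a) (hb : 3 ≤ b) (hbo : Odd b) (h12 : m ≠ 12) (h24 : m ≠ 24) (h60 : m ≠ 60) :
    ∃ (G : Type) (_ : Group G) (_ : Finite G), m ∣ Nat.card G ∧
      m.Coprime (Nat.card G / m) ∧ ∀ H : Subgroup G, Nat.card H ≠ m := by
  classical
  obtain ⟨p, i, j, hpp, hpm, hi, hj⟩ := exists_prime_split ha hb hab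
  haveI := Fact.mk hpp
  have hpodd : Odd p := hpp.odd_of_ne_two (by omega)
  have hF : Fintype.card (ZMod p) = p := ZMod.card p
  have hgcd : Nat.gcd 2 (p - 1) = 2 :=
    Nat.gcd_eq_left (even_iff_two_dvd.1 (Nat.Odd.sub_odd hpodd odd_one))
  have hm0 : 0 < m := by subst hm; positivity
  have hda : a ∣ p - 1 := ⟨1 + a * i, by rw [hi, mul_add, mul_one, ← mul_assoc, ← sq]; omega⟩
  have hdb : b ∣ p + 1 := ⟨1 + b * j, by rw [hj]; ring⟩
  have hna : ¬ a ∣ p + 1 := fun h => by
    have h2 := Nat.dvd_sub h hda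
    rw [show p + 1 - (p - 1) = 2 by omega] at h2
    have := Nat.le_of_dvd (by norm_num) h2
    omega
  have hnb : ¬ b ∣ p - 1 := fun h => by
    have h2 := Nat.dvd_sub hdb h
    rw [show p + 1 - (p - 1) = 2 by omega] at h2
    have := Nat.le_of_dvd (by norm_num) h2
    omega
  set G := PSL2 (ZMod p) with hG
  -- the order
  have hcard : 2 * Nat.card G = p * ((p - 1) * (p + 1)) := by
    rw [ClMax99.card_PSL_two_odd (by rw [Nat.card_zmod]; exact hpodd), Nat.card_zmod]
    congr 1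
    rw [mul_comm, ← Nat.sq_sub_sq, one_pow]
  set u := 1 + a * i with hu
  set w := 1 + b * j with hw
  have hp1 : p - 1 = a * u := by rw [hi, hu, mul_add, mul_one, ← mul_assoc, ← sq]; omega
  have hp2 : p + 1 = b * w := by rw [hj, hw]; ring
  have hX : 2 * Nat.card G = m * (p * u * w) := by rw [hcard, hp1, hp2, hm]; ring
  have h2X : 2 ∣ p * u * w := by
    have h2w : 2 ∣ w := by
      have h : 2 ∣ b * w := by rw [← hp2]; exact even_iff_two_dvd.1 hpodd.add_one
      exact (Nat.coprime_two_left.2 hbo).dvd_of_dvd_mul_left h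
    exact dvd_mul_of_dvd_right h2w _
  obtain ⟨Y, hY⟩ := h2X
  have hGY : Nat.card G = m * Y := by
    refine Nat.eq_of_mul_eq_mul_left (by norm_num : 0 < 2) ?_
    rw [hX, hY]; ring
  refine ⟨G, inferInstance, inferInstance, Dvd.intro _ hGY.symm, ?_, fun H hH => ?_⟩
  · rw [hGY, Nat.mul_div_cancel_left _ hm0]
    refine Nat.coprime_of_dvd fun r hr hrm hrY => ?_
    have hrX : r ∣ p * u * w := by rw [hY]; exact hrY.mul_left 2
    have hrp : ¬ r ∣ p := fun h => by
      rw [Nat.prime_dvd_prime_iff_eq hr hpp] at h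
      have := Nat.le_of_dvd hm0 hrm
      rw [hm] at this; omega
    have htwo : r ∣ p - 1 → r ∣ p + 1 → r = 2 := fun h1 h2 => by
      have h3 := Nat.dvd_sub h2 h1
      rw [show p + 1 - (p - 1) = 2 by omega] at h3
      exact (Nat.prime_dvd_prime_iff_eq hr Nat.prime_two).1 h3
    rw [hm] at hrm
    rcases (hr.dvd_mul).1 hrm with hra | hrb
    · have hru : ¬ r ∣ u := fun h => by
        rw [hu] at h
        exact hr.one_lt.ne' (Nat.dvd_one.1 ((Nat.dvd_add_left (hra.mul_right i)).1 h))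
      rcases (hr.dvd_mul).1 hrX with h | h
      · exact ((hr.dvd_mul).1 h).elim hrp hru
      · have hr2 := htwo (hra.trans hda) (hp2 ▸ h.mul_left b)
        subst hr2
        have h4a := h4 (even_iff_two_dvd.2 hra)
        have h41 : 4 ∣ p - 1 := h4a.trans hda
        obtain ⟨k, hk⟩ := hrY
        have h4X : 4 ∣ p * u * w := ⟨k, by rw [hY, hk]; ring⟩
        have hpu : Nat.Coprime 4 (p * u) := by
          rw [show (4 : ℕ) = 2 ^ 2 by norm_num]
          exact Nat.Coprime.pow_left 2 ((Nat.prime_two.coprime_iff_not_dvd).2 fun h =>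
            ((Nat.prime_two.dvd_mul).1 h).elim hrp hru)
        have h4p : 4 ∣ p + 1 := hp2 ▸ (hpu.dvd_of_dvd_mul_left h4X).mul_left b
        omega
    · have hr2 : r ≠ 2 := fun e => (Nat.not_even_iff_odd.2 hbo) (even_iff_two_dvd.2 (e ▸ hrb))
      have hrw : ¬ r ∣ w := fun h => by
        rw [hw] at h
        exact hr.one_lt.ne' (Nat.dvd_one.1 ((Nat.dvd_add_left (hrb.mul_right j)).1 h))
      rcases (hr.dvd_mul).1 hrX with h | h
      · rcases (hr.dvd_mul).1 h with h | h
        · exact hrp h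
        · exact hr2 (htwo (hp1 ▸ h.mul_left a) (hrb.trans hdb))
      · exact hrw h
  -- no subgroup of order `m`
  have hdiv : ∀ k : ℕ, (k ∣ (p + 1) / 2 ∨ k ∣ (p - 1) / 2) → m ∣ 2 * k → False := by
    intro k hk hmk
    have he1 : 2 * ((p + 1) / 2) = p + 1 := by have := Nat.odd_iff.1 hpodd; omega
    have he2 : 2 * ((p - 1) / 2) = p - 1 := by have := Nat.odd_iff.1 hpodd; omega
    rcases hk with h | h
    · exact hna ((Dvd.intro b hm.symm).trans (hmk.trans (he1 ▸ mul_dvd_mul_left 2 h)))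
    · exact hnb ((Dvd.intro_left a hm.symm).trans (hmk.trans (he2 ▸ mul_dvd_mul_left 2 h)))
  rcases kind' p H with ⟨k, hk, -, hHk⟩ | ⟨t, ht⟩ | ⟨n, -, hn, ⟨e⟩⟩ | ⟨⟨e⟩⟩ | ⟨⟨e⟩⟩ | ⟨⟨e⟩⟩ |
      ⟨T, hT, ⟨l, hl1, hl⟩, hiso, -, -⟩
  · rw [hF, hgcd] at hk
    exact hdiv k hk (by rw [← hHk, hH]; exact dvd_mul_left _ _)
  · -- the point stabiliser
    set B := stabilizer G (∞ : OnePoint (ZMod p)) with hB
    have hidx : B.index = p + 1 := by
      haveI : IsPretransitive G (OnePoint (ZMod p)) := ⟨fun x y => by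
        obtain ⟨g, hg⟩ := exists_smul_infty x
        obtain ⟨h, hh⟩ := exists_smul_infty y
        exact ⟨h⁻¹ * g, by rw [mul_smul, hg, ← hh, inv_smul_smul]⟩⟩
      rw [hB, MulAction.index_stabilizer_of_transitive]
      show Nat.card (Option (ZMod p)) = p + 1
      rw [Finite.card_option, Nat.card_zmod]
    have hle : Nat.card H ∣ Nat.card B := by
      have h1 : H.map (MulAut.conj t).toMonoidHom ≤ B := by
        rintro _ ⟨g, hg, rfl⟩
        exact mem_stabilizer_iff.2 (ht g hg)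
      have h2 := Subgroup.card_dvd_of_le h1
      rwa [Subgroup.card_map_of_injective (MulAut.conj t).injective] at h2
    have hBc : 2 * Nat.card B = p * (p - 1) := by
      refine Nat.eq_of_mul_eq_mul_right (Nat.succ_pos p) ?_
      show 2 * Nat.card B * (p + 1) = p * (p - 1) * (p + 1)
      rw [mul_assoc, ← hidx, B.card_mul_index, hcard, hidx, mul_assoc]
    have hbp : b ∣ p * (p - 1) := (Dvd.intro_left a hm.symm).trans
      ((hH ▸ hle).trans (Dvd.intro_left 2 hBc))
    refine hnb ((Nat.Coprime.symm ?_).dvd_of_dvd_mul_left hbp)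
    refine (Nat.Prime.coprime_iff_not_dvd hpp).2 fun h => ?_
    have h5 := Nat.le_of_dvd (by omega) h
    have h6 : b ≤ a * b := Nat.le_mul_of_pos_left b (by omega)
    omega
  · rw [hF, hgcd] at hn
    exact hdiv n hn (by rw [← hH, Nat.card_congr e.toEquiv, DihedralGroup.nat_card])
  · rw [Nat.card_congr e.toEquiv] at hH
    rw [nat_card_alternatingGroup, Nat.card_fin] at hH
    exact h12 (hH.symm.trans rfl)
  · rw [Nat.card_congr e.toEquiv, Nat.card_perm, Nat.card_fin] at hH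
    exact h24 (hH.symm.trans rfl)
  · rw [Nat.card_congr e.toEquiv] at hH
    rw [nat_card_alternatingGroup, Nat.card_fin] at hH
    exact h60 (hH.symm.trans rfl)
  · rw [hF] at hl
    have hTp : Nat.card T = p := by
      have h1 : Nat.card T ∣ p := (dvd_pow_self (Nat.card T) (show l ≠ 0 by omega)).trans hl.dvd
      rcases (Nat.dvd_prime hpp).1 h1 with h | h
      · omega
      · exact h
    have hTo : Odd (Nat.card T) := by rw [hTp]; exact hpodd
    have hdp : p ∣ m := by
      rw [← hH]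
      rcases hiso with ⟨⟨e⟩⟩ | ⟨⟨e⟩⟩
      · rw [Nat.card_congr e.toEquiv]
        refine (Nat.coprime_two_right.2 hpodd).dvd_of_dvd_mul_left ?_
        rw [ClMax99.card_PSL_two_odd hTo, hTp]
        exact dvd_mul_right _ _
      · rw [Nat.card_congr e.toEquiv, ClMax99.card_PGL_two, hTp]
        exact dvd_mul_right _ _
    have := Nat.le_of_dvd hm0 hdp
    rw [hm] at this; omega

end Cfsg.Agent.HallNum96
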