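import Cfsg.Agent.HallNum96.Twelve
import Cfsg.Agent.GW66.Defs
import Cfsg.Agent.ClMax99.PSLMax
import Cfsg.Agent.S0804
import Mathlib.GroupTheory.SchurZassenhaus

/-!
# 60 is a Hall number, given the theorem on groups with a four-group as Sylow 2-subgroup
-/

set_option autoImplicit false

namespace Cfsg.Agent.HallNum96

open Subgroup

variable {G : Type} [Group G] [Finite G]

/-- A supplement of a normal subgroup covers the quotient. -/
theorem card_quotient_dvd (N H : Subgroup G) [N.Normal] (h : H ⊔ N = ⊤) :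
    Nat.card (G ⧸ N) ∣ Nat.card ↥H := by
  refine Subgroup.card_dvd_of_surjective ((QuotientGroup.mk' N).comp H.subtype) fun q => ?_
  obtain ⟨x, rfl⟩ := QuotientGroup.mk'_surjective N q
  obtain ⟨a, ha, b, hb, rfl⟩ := Subgroup.mem_sup_of_normal_right.1 (h ▸ mem_top x : x ∈ H ⊔ N)
  refine ⟨⟨a, ha⟩, ?_⟩
  show QuotientGroup.mk' N a = QuotientGroup.mk' N (a * b)
  rw [map_mul, show QuotientGroup.mk' N b = 1 from (QuotientGroup.eq_one_iff b).2 hb, mul_one]

/-- The normalizer of a Sylow 2-subgroup supplies the Hall subgroup once it has order divisible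
by five. -/
theorem hall_sixty_of_normalizer (hdvd : 60 ∣ Nat.card G) (hco : Nat.Coprime 60 (Nat.card G / 60))
    (S : Sylow 2 G) (hS : Nat.card ↥(S : Subgroup G) = 4)
    (h3 : 3 ∣ Nat.card ↥(normalizer ((S : Subgroup G) : Set G)))
    (h5 : 5 ∣ Nat.card ↥(normalizer ((S : Subgroup G) : Set G))) :
    ∃ H : Subgroup G, Nat.card H = 60 := by
  haveI := Fact.mk Nat.prime_two
  set N := normalizer ((S : Subgroup G) : Set G) with hN
  have hSN : (S : Subgroup G) ≤ N := Subgroup.le_normalizer
  refine hall_of_solvable N ?_ ?_ hco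
  · haveI : ((S : Subgroup G).subgroupOf N).Normal := Subgroup.normal_in_normalizer
    refine isSolvable_of_quotient _ (isSolvable_of_isPGroup (p := 2)
      (S.isPGroup'.of_equiv (Subgroup.subgroupOfEquivOfLe hSN).symm))
      (isSolvable_of_not_four_dvd fun h => ?_)
    have h1 := Subgroup.card_eq_card_quotient_mul_card_subgroup ((S : Subgroup G).subgroupOf N)
    rw [Nat.card_congr (Subgroup.subgroupOfEquivOfLe hSN).toEquiv, hS] at h1
    have h8 : 2 ^ (2 + 1) ∣ Nat.card ↥N := by
      rw [h1, show (2 : ℕ) ^ (2 + 1) = 2 * 4 by norm_num]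
      exact mul_dvd_mul (dvd_trans (by norm_num) h) dvd_rfl
    have := not_two_mul_dvd (m := 60) (by norm_num) hdvd hco (Subgroup.card_subgroup_dvd_card N) h8
    norm_num at this
  · have h4 : 4 ∣ Nat.card ↥N := hS ▸ Subgroup.card_dvd_of_le hSN
    rw [show (60 : ℕ) = 4 * 3 * 5 by norm_num]
    exact Nat.Coprime.mul_dvd_of_dvd_of_dvd (by norm_num)
      (Nat.Coprime.mul_dvd_of_dvd_of_dvd (by norm_num) h4 h3) h5

/-- A group of order four moved by an element of odd order is a four-group. -/
theorem isKleinFour_of_moving {Q : Subgroup G} (hQ : Nat.card ↥Q = 4) {g : G}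
    (hg : g ∈ normalizer (Q : Set G)) (ho : Odd (orderOf g))
    (hgC : g ∉ centralizer (Q : Set G)) : IsKleinFour ↥Q := by
  have hnc : ¬ IsCyclic ↥Q := by
    intro hc
    have h2 : Nat.card (MulAut ↥Q) = 2 := by
      rw [IsCyclic.card_mulAut, hQ]; decide
    have h1 : orderOf (Q.normalizerMonoidHom ⟨g, hg⟩) ∣ 1 := by
      have ha : orderOf (Q.normalizerMonoidHom ⟨g, hg⟩) ∣ 2 := h2 ▸ orderOf_dvd_natCard _
      have hb : orderOf (Q.normalizerMonoidHom ⟨g, hg⟩) ∣ orderOf g := by
        have := orderOf_map_dvd Q.normalizerMonoidHom ⟨g, hg⟩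
        rwa [Subgroup.orderOf_mk] at this
      have hc := Nat.dvd_gcd ha hb
      rwa [(Nat.coprime_two_left.2 ho).gcd_eq_one] at hc
    rw [Nat.dvd_one, orderOf_eq_one_iff] at h1
    refine hgC ?_
    have h : (⟨g, hg⟩ : ↥(normalizer (Q : Set G))) ∈ Q.normalizerMonoidHom.ker := h1
    rw [Subgroup.normalizerMonoidHom_ker] at h
    exact h
  refine ⟨hQ, ?_⟩
  haveI : Nontrivial ↥Q := Finite.one_lt_card_iff_nontrivial.1 (by omega)
  refine ((Nat.dvd_prime Nat.prime_two).1 (Monoid.exponent_dvd_of_forall_pow_eq_one fun x => ?_)).resolve_left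
    fun e => ?_
  · have h4 : orderOf x ∣ 2 ^ 2 := by
      rw [show (2 : ℕ) ^ 2 = Nat.card ↥Q by rw [hQ]; norm_num]; exact orderOf_dvd_natCard x
    obtain ⟨k, hk, hxk⟩ := (Nat.dvd_prime_pow Nat.prime_two).1 h4
    rcases Nat.lt_or_ge k 2 with h | h
    · exact orderOf_dvd_iff_pow_eq_one.1 (hxk ▸ (Nat.pow_dvd_pow 2 (by omega : k ≤ 1)))
    · exact absurd (isCyclic_of_orderOf_eq_card x (by
        rw [hxk, hQ, show k = 2 by omega]; norm_num)) hnc
  · exact (not_subsingleton ↥Q) (Monoid.exp_eq_one_iff.1 e)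

/-- 60 is a Hall number. -/
theorem sixty (hK : GW66.KleinStmt.{0}) (hdvd : 60 ∣ Nat.card G)
    (hco : Nat.Coprime 60 (Nat.card G / 60)) : ∃ H : Subgroup G, Nat.card H = 60 := by
  classical
  by_cases hs : Group.IsSolvable G
  · exact hall_of_solvable ⊤ (@Group.isSolvable_of_isSolvable_injective _ _ _ _
      (Subgroup.topEquiv (G := G)).toMonoidHom (Subgroup.topEquiv (G := G)).injective hs)
      (by rwa [Subgroup.card_top]) hco
  haveI := Fact.mk Nat.prime_two
  haveI h5f := Fact.mk (by norm_num : Nat.Prime 5)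
  obtain ⟨S⟩ := (inferInstance : Nonempty (Sylow 2 G))
  have hS : Nat.card ↥(S : Subgroup G) = 4 := by
    simpa using sylow_card (m := 60) (e := 2) (Or.inl rfl) (k := 15) (by decide) (by norm_num) hdvd hco S
  obtain ⟨Q, hQS, g, hgN, hgo, hgC⟩ := exists_moving hs S
  have hQdvd : Nat.card ↥Q ∣ 4 := hS ▸ Subgroup.card_dvd_of_le hQS
  obtain ⟨h4, h3g⟩ : 4 ∣ Nat.card ↥Q ∧ 3 ∣ orderOf g := by
    rcases three_or_seven (hQdvd.trans (by norm_num)) hgN hgo hgC with h | ⟨h8, -⟩
    · exact h
    · rw [h8] at hQdvd; norm_num at hQdvd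
  have hQ4 : Nat.card ↥Q = 4 := Nat.dvd_antisymm hQdvd h4
  have hQe : Q = (S : Subgroup G) := Subgroup.eq_of_le_of_card_ge hQS (by rw [hQ4, hS])
  subst hQe
  set N := normalizer ((S : Subgroup G) : Set G) with hN
  have h3N : 3 ∣ Nat.card ↥N := h3g.trans (Subgroup.orderOf_dvd_natCard N hgN)
  -- the structure modulo the odd core
  have hklein := isKleinFour_of_moving hQ4 hgN hgo hgC
  obtain ⟨Nb, hNb, hNodd, F, _, _, hq8, ⟨e⟩⟩ := hK G (S : Subgroup G) hklein
    (by rw [Nat.odd_iff]; have := S.not_dvd_index; omega) ⟨g, mem_top g, hgN, hgC⟩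
  haveI := hNb
  set O := Cfsg.oddCore G with hO
  have hOodd : Odd (Nat.card ↥O) := InvChar.odd_oddCore
  have hG : Nat.card G = Nat.card (G ⧸ O) * Nat.card ↥O :=
    Subgroup.card_eq_card_quotient_mul_card_subgroup O
  have hq : 2 * Nat.card ↥Nb = Fintype.card F * (Fintype.card F ^ 2 - 1) := by
    rw [Nat.card_congr e.toEquiv]
    have h := ClMax99.card_PSL_two_odd (K := F) (by
      rw [Nat.card_eq_fintype_card, Nat.odd_iff]; omega)
    rwa [Nat.card_eq_fintype_card (α := F)] at h
  have hsplit : ∀ r : ℕ, r.Prime → r ∣ 60 → r ≠ 2 → ∀ a b : ℕ,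
      Nat.card G = a * b → r ∣ a → r ∣ b → False := by
    intro r hr hr60 hr2 a b hab hra hrb
    obtain ⟨k, hk⟩ := hdvd
    rw [hk, Nat.mul_div_cancel_left _ (by norm_num)] at hco
    have h2 : r * r ∣ 60 * k := hk ▸ hab ▸ mul_dvd_mul hra hrb
    have hk' : Nat.Coprime (r * r) k :=
      Nat.Coprime.mul_left (hco.coprime_dvd_left hr60) (hco.coprime_dvd_left hr60)
    have h3 := hk'.dvd_of_dvd_mul_right h2
    have hr' : r = 3 ∨ r = 5 := by
      have h := hr60
      rw [show (60 : ℕ) = 2 * 2 * 3 * 5 by norm_num] at h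
      rcases (hr.dvd_mul).1 h with h | h
      · rcases (hr.dvd_mul).1 h with h | h
        · exact absurd ((Nat.prime_dvd_prime_iff_eq hr Nat.prime_two).1
            (((hr.dvd_mul).1 h).elim id id)) hr2
        · exact Or.inl ((Nat.prime_dvd_prime_iff_eq hr Nat.prime_three).1 h)
      · exact Or.inr ((Nat.prime_dvd_prime_iff_eq hr h5f.out).1 h)
    rcases hr' with rfl | rfl <;> norm_num at h3
  have hNq : Nat.card ↥Nb ∣ Nat.card (G ⧸ O) := Subgroup.card_subgroup_dvd_card Nb
  have h3Nb : 3 ∣ Nat.card ↥Nb := by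
    refine (Nat.Coprime.dvd_of_dvd_mul_left (by norm_num : Nat.Coprime 3 2) ?_)
    rw [hq]
    set q := Fintype.card F
    have hq3 : q % 3 = 0 ∨ q % 3 = 1 ∨ q % 3 = 2 := by omega
    rcases hq3 with h | h | h
    · exact Dvd.dvd.mul_right (Nat.dvd_of_mod_eq_zero h) _
    all_goals
      refine Dvd.dvd.mul_left ((Nat.modEq_iff_dvd' (Nat.one_le_pow _ _ (by omega))).1 ?_) _
      unfold Nat.ModEq
      rw [Nat.pow_mod, h]
  have h3O : ¬ 3 ∣ Nat.card ↥O := fun h =>
    hsplit 3 (by norm_num) (by norm_num) (by norm_num) _ _ hG (h3Nb.trans hNq) h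
  by_cases h5O : 5 ∣ Nat.card ↥O
  · -- a Sylow 5-subgroup of the odd core
    obtain ⟨P⟩ := (inferInstance : Nonempty (Sylow 5 ↥O))
    set R := (P : Subgroup ↥O).map O.subtype with hR
    have hRcard : Nat.card ↥R = 5 := by
      rw [hR, Subgroup.card_map_of_injective O.subtype_injective]
      obtain ⟨n, hn⟩ := IsPGroup.iff_card.1 P.isPGroup'
      have h1 : 5 ∣ Nat.card ↥(P : Subgroup ↥O) :=
        P.dvd_card_of_dvd_card h5O
      rw [hn] at h1 ⊢
      rcases n with _ | _ | n
      · norm_num at h1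
      · norm_num
      · exfalso
        obtain ⟨k, hk⟩ := hdvd
        rw [hk, Nat.mul_div_cancel_left _ (by norm_num)] at hco
        have h25 : 25 ∣ Nat.card G := by
          refine dvd_trans ?_ ((hn ▸ Subgroup.card_subgroup_dvd_card (P : Subgroup ↥O)).trans
            (Subgroup.card_subgroup_dvd_card O))
          exact ⟨5 ^ n, by ring⟩
        rw [hk, show (25 : ℕ) = 5 ^ 2 by norm_num] at h25
        have := (Nat.Coprime.pow_left 2 (hco.coprime_dvd_left (by norm_num : 5 ∣ 60))).dvd_of_dvd_mul_right h25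
        norm_num at this
    set M := normalizer (R : Set G) with hM
    have hRM : R ≤ M := Subgroup.le_normalizer
    have hMq : Nat.card (G ⧸ O) ∣ Nat.card ↥M :=
      card_quotient_dvd O M (Sylow.normalizer_sup_eq_top P)
    have hM60 : 60 ∣ Nat.card ↥M := by
      have h12 : 12 ∣ Nat.card (G ⧸ O) := by
        refine (Nat.Coprime.dvd_of_dvd_mul_right ?_ (hG ▸ dvd_trans (by norm_num) hdvd))
        rw [show (12 : ℕ) = 2 ^ 2 * 3 by norm_num]
        exact Nat.Coprime.mul_left (Nat.Coprime.pow_left _ (Nat.coprime_two_left.2 hOodd))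
          ((Nat.Prime.coprime_iff_not_dvd (by norm_num)).2 h3O)
      rw [show (60 : ℕ) = 12 * 5 by norm_num]
      exact Nat.Coprime.mul_dvd_of_dvd_of_dvd (by norm_num) (h12.trans hMq)
        (hRcard ▸ Subgroup.card_dvd_of_le hRM)
    set C := centralizer (R : Set G) with hC
    by_cases hCs : Group.IsSolvable ↥C
    · refine hall_of_solvable M ?_ hM60 hco
      haveI : IsCyclic ↥R := isCyclic_of_prime_card hRcard
      haveI : Group.IsSolvable (MulAut ↥R) := Group.isSolvable_of_comm fun a b =>
        (IsCyclic.mulAutMulEquiv ↥R).injective (by rw [map_mul, map_mul, mul_comm])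
      haveI : Group.IsSolvable ↥(R.normalizerMonoidHom.ker) := by
        rw [Subgroup.normalizerMonoidHom_ker]
        haveI := hCs
        exact Group.isSolvable_of_isSolvable_injective (f := M.subtype.subgroupComap C)
          fun x y h => Subtype.ext (Subtype.ext (congrArg (fun z : ↥C => (z : G)) h))
      exact Group.isSolvable_of_ker_le_range R.normalizerMonoidHom.ker.subtype
        R.normalizerMonoidHom (by rw [Subgroup.range_subtype])
    · obtain ⟨PC⟩ := (inferInstance : Nonempty (Sylow 2 ↥C))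
      have h4C : 4 ∣ Nat.card ↥C := by
        by_contra h; exact hCs (isSolvable_of_not_four_dvd h)
      have h4P : 4 ∣ Nat.card ↥(PC : Subgroup ↥C) := by
        have := PC.pow_dvd_card_of_pow_dvd_card (n := 2) (by simpa using h4C)
        simpa using this
      obtain ⟨S', hS'⟩ := (PC.isPGroup'.map C.subtype).exists_le_sylow
      obtain ⟨c, hc⟩ := MulAction.exists_smul_eq G S' S
      have hS'card : Nat.card ↥(S' : Subgroup G) = 4 := by
        rw [S'.card_eq_multiplicity, ← S.card_eq_multiplicity, hS]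
      have heq : (PC : Subgroup ↥C).map C.subtype = (S' : Subgroup G) :=
        Subgroup.eq_of_le_of_card_ge hS' (by
          rw [hS'card, Subgroup.card_map_of_injective C.subtype_injective]
          exact Nat.le_of_dvd Nat.card_pos h4P)
      refine hall_sixty_of_normalizer hdvd hco S hS h3N ?_
      have hsub : R.map (MulAut.conj c).toMonoidHom ≤ N := by
        rintro _ ⟨r, hr, rfl⟩
        have hmap : (S' : Subgroup G).map (MulAut.conj c).toMonoidHom = (S : Subgroup G) := by
          rw [← hc, Sylow.coe_subgroup_smul]; rfl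
        refine Subgroup.centralizer_le_normalizer _ (mem_centralizer_iff.2 fun s hs => ?_)
        rw [← hmap, ← heq] at hs
        obtain ⟨_, ⟨z, -, rfl⟩, rfl⟩ := hs
        show c * (z : G) * c⁻¹ * (c * r * c⁻¹) = c * r * c⁻¹ * (c * (z : G) * c⁻¹)
        rw [conj_mul, conj_mul, (mem_centralizer_iff.1 z.2 r hr).symm]
      rw [← hRcard, ← Subgroup.card_map_of_injective (f := (MulAut.conj c).toMonoidHom)
        (MulAut.conj c).injective]
      exact Subgroup.card_dvd_of_le hsub
  · by_cases h5Nb : 5 ∣ Nat.card ↥Nb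
    · -- a subgroup `A₅`
      obtain ⟨H, ⟨eH⟩⟩ := (S0804.result (F := F) rfl).2 (hq ▸ h5Nb.mul_left 2)
      set A := (H.map e.symm.toMonoidHom).map Nb.subtype with hA
      have hA60 : Nat.card ↥A = 60 := by
        rw [hA, Subgroup.card_map_of_injective Nb.subtype_injective,
          Subgroup.card_map_of_injective e.symm.injective, Nat.card_congr eH.toEquiv,
          nat_card_alternatingGroup, Nat.card_fin]
        rfl
      set L := A.comap (QuotientGroup.mk' O) with hL
      have hOL : O ≤ L := fun x hx => by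
        show QuotientGroup.mk' O x ∈ A
        rw [show QuotientGroup.mk' O x = 1 from (QuotientGroup.eq_one_iff x).2 hx]
        exact one_mem A
      have hLcard : Nat.card ↥L = 60 * Nat.card ↥O := by
        have h1 := L.card_mul_index
        rw [hL, Subgroup.index_comap_of_surjective A (QuotientGroup.mk'_surjective O), ← hL, hG,
          ← A.card_mul_index, hA60] at h1
        refine Nat.eq_of_mul_eq_mul_right (Nat.pos_of_ne_zero (Subgroup.index_ne_zero_of_finite (H := A))) ?_
        rw [h1]; ring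
      have hcop : Nat.Coprime 60 (Nat.card ↥O) := by
        rw [show (60 : ℕ) = 2 ^ 2 * 3 * 5 by norm_num]
        refine Nat.Coprime.mul_left (Nat.Coprime.mul_left
          (Nat.Coprime.pow_left _ (Nat.coprime_two_left.2 hOodd))
          ((Nat.Prime.coprime_iff_not_dvd (by norm_num)).2 h3O))
          ((Nat.Prime.coprime_iff_not_dvd (by norm_num)).2 h5O)
      have hsub := Nat.card_congr (Subgroup.subgroupOfEquivOfLe hOL).toEquiv
      have hidx : (O.subgroupOf L).index = 60 := by
        have h1 := (O.subgroupOf L).card_mul_index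
        rw [hsub, hLcard, mul_comm 60] at h1
        exact Nat.eq_of_mul_eq_mul_left Nat.card_pos h1
      obtain ⟨H', hH'⟩ := Subgroup.exists_right_complement'_of_coprime (N := O.subgroupOf L)
        (by rw [hsub, hidx]; exact hcop.symm)
      exact ⟨H'.map L.subtype, by
        rw [Subgroup.card_map_of_injective L.subtype_injective, ← hH'.symm.index_eq_card, hidx]⟩
    · set K := Nb.comap (QuotientGroup.mk' O) with hKdef
      have hKidx : K.index = Nb.index := Subgroup.index_comap_of_surjective Nb (QuotientGroup.mk'_surjective O)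
      have hSK : (S : Subgroup G) ≤ K := by
        intro x hx
        rw [← QuotientGroup.eq_one_iff (N := K)]
        have h1 : orderOf (QuotientGroup.mk x : G ⧸ K) ∣ 4 := by
          refine (orderOf_map_dvd (QuotientGroup.mk' K) x).trans ?_
          exact hS ▸ Subgroup.orderOf_dvd_natCard _ hx
        have h2 : orderOf (QuotientGroup.mk x : G ⧸ K) ∣ K.index := by
          rw [Subgroup.index_eq_card]; exact orderOf_dvd_natCard _
        have h3 := Nat.dvd_gcd h1 h2
        rw [hKidx, show (4 : ℕ) = 2 ^ 2 by norm_num,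
          (Nat.Coprime.pow_left 2 (Nat.coprime_two_left.2 hNodd)).gcd_eq_one, Nat.dvd_one,
          orderOf_eq_one_iff] at h3
        exact h3
      have hsup := Sylow.normalizer_sup_eq_top (S.subtype hSK)
      rw [show ((S.subtype hSK : Sylow 2 ↥K) : Subgroup ↥K).map K.subtype = (S : Subgroup G) from
        Subgroup.map_subgroupOf_eq_of_le hSK] at hsup
      have h := card_quotient_dvd K N hsup
      rw [← Subgroup.index_eq_card, hKidx] at h
      refine hall_sixty_of_normalizer hdvd hco S hS h3N (dvd_trans ?_ h)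
      have h5q : 5 ∣ Nat.card (G ⧸ O) :=
        ((Nat.Prime.dvd_mul h5f.out).1 (hG ▸ dvd_trans (by norm_num) hdvd)).resolve_right h5O
      rw [← Nb.card_mul_index] at h5q
      exact ((Nat.Prime.dvd_mul h5f.out).1 h5q).resolve_left h5Nb

end Cfsg.Agent.HallNum96
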