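import Cfsg.Agent.HallNum96.TwentyFour
import Cfsg.Agent.HallNum96.Counter
import Cfsg.Agent.HallNum96.Sixty

/-!
# Hall numbers, given the theorem on groups with a four-group as Sylow 2-subgroup
-/

set_option autoImplicit false

namespace Cfsg.Agent.HallNum96

open Subgroup

/-- The form of S4044. -/
theorem s4044_of (hK : GW66.KleinStmt.{0}) (m : ℕ) (hm : 2 ≤ m) :
    (∀ (G : Type) [Group G] [Finite G], m ∣ Nat.card G → m.Coprime (Nat.card G / m) →
        ∃ H : Subgroup G, Nat.card H = m) ↔
    (IsPrimePow m ∨ m % 4 = 2 ∨ m = 12 ∨ m = 24 ∨ m = 60) := by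
  constructor
  · intro h
    by_contra hno
    push Not at hno
    obtain ⟨hpp, h42, h12, h24, h60⟩ := hno
    set r := m.minFac with hr
    have hrp : r.Prime := Nat.minFac_prime (by omega)
    set a := r ^ m.factorization r with ha
    set b := m / a with hb
    have hmab : m = a * b := (Nat.mul_div_cancel' (Nat.ordProj_dvd m r)).symm
    have hrb : ¬ r ∣ b := Nat.not_dvd_ordCompl hrp (by omega)
    have hab : a.Coprime b := Nat.Coprime.pow_left _ ((Nat.Prime.coprime_iff_not_dvd hrp).2 hrb)
    have hv : m.factorization r ≠ 0 :=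
      (Nat.Prime.factorization_pos_of_dvd hrp (by omega) (Nat.minFac_dvd m)).ne'
    have hbo : Odd b := by
      by_contra hbe
      rw [Nat.not_odd_iff_even] at hbe
      have h2m : 2 ∣ m := hmab ▸ (even_iff_two_dvd.1 hbe).mul_left a
      have : r = 2 := le_antisymm (Nat.minFac_le_of_dvd le_rfl h2m) hrp.two_le
      exact hrb (this ▸ even_iff_two_dvd.1 hbe)
    have hb3 : 3 ≤ b := by
      obtain ⟨c, hc⟩ := hbo
      by_contra hb1
      exact hpp ((isPrimePow_nat_iff m).2 ⟨r, m.factorization r, hrp, Nat.pos_of_ne_zero hv,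
        ha.symm.trans (Eq.trans (by rw [show b = 1 by omega, mul_one]) hmab.symm)⟩)
    have h4 : Even a → 4 ∣ a := by
      intro hae
      have hr2 : r = 2 := ((Nat.prime_dvd_prime_iff_eq Nat.prime_two hrp).1
        (Nat.prime_two.dvd_of_dvd_pow (even_iff_two_dvd.1 hae))).symm
      obtain ⟨c, hc⟩ := hbo
      rcases Nat.lt_or_ge (m.factorization r) 2 with h1 | h1
      · exfalso
        have : a = 2 := by rw [ha, show m.factorization r = 1 by omega, pow_one, hr2]
        rw [hmab, this, hc] at h42
        omega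
      · rw [ha, hr2] at *
        exact dvd_trans (by norm_num) (Nat.pow_dvd_pow 2 h1)
    have ha3 : 3 ≤ a := by
      have h2 : 2 ≤ a := le_trans hrp.two_le (Nat.le_self_pow hv r)
      rcases Nat.eq_or_lt_of_le h2 with e | e
      · have := h4 ⟨1, by omega⟩
        omega
      · omega
    obtain ⟨G, _, _, hd, hc, hno'⟩ := counterexample hmab hab ha3 h4 hb3 hbo h12 h24 h60
    obtain ⟨H, hH⟩ := h G hd hc
    exact hno' H hH
  · rintro (hpp | h42 | rfl | rfl | rfl) G _ _ hd hc
    · obtain ⟨r, e, hr, -, rfl⟩ := (isPrimePow_nat_iff m).1 hpp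
      haveI := Fact.mk hr
      exact Sylow.exists_subgroup_card_pow_prime r hd
    · have h4 : ¬ 4 ∣ Nat.card G := by
        obtain ⟨k, hk⟩ := hd
        rw [hk, Nat.mul_div_cancel_left _ (by omega)] at hc
        have hko : Nat.Coprime 4 k := by
          rw [show (4 : ℕ) = 2 ^ 2 by norm_num]
          exact Nat.Coprime.pow_left 2 (hc.coprime_dvd_left (by omega))
        intro h
        rw [hk] at h
        have := hko.dvd_of_dvd_mul_right h
        omega
      exact hall_of_solvable ⊤ (@Group.isSolvable_of_isSolvable_injective _ _ _ _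
        (Subgroup.topEquiv (G := G)).toMonoidHom (Subgroup.topEquiv (G := G)).injective
        (isSolvable_of_not_four_dvd h4)) (by rwa [Subgroup.card_top]) hc
    · exact twelve hd hc
    · exact twentyFour hd hc
    · exact sixty hK hd hc

end Cfsg.Agent.HallNum96
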