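import Cfsg.Agent.HallNum96.Basic

/-!
# Hall numbers 12 and 24: the part with a moving 3-element
-/

set_option autoImplicit false

namespace Cfsg.Agent.HallNum96

open Subgroup

variable {G : Type} [Group G] [Finite G]

theorem not_two_mul_dvd {m : ℕ} (hm2 : 2 ∣ m) (hdvd : m ∣ Nat.card G)
    (hco : m.Coprime (Nat.card G / m)) {c : ℕ} (hc : c ∣ Nat.card G) {e : ℕ}
    (he : 2 ^ (e + 1) ∣ c) : 2 ^ (e + 1) ∣ m := by
  obtain ⟨k, hk⟩ := hdvd
  have hmpos : 0 < m := by
    rcases Nat.eq_zero_or_pos m with h | h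
    · rw [h, zero_mul] at hk
      exact absurd hk Nat.card_pos.ne'
    · exact h
  rw [hk, Nat.mul_div_cancel_left _ hmpos] at hco
  have hk2 : Nat.Coprime (2 ^ (e + 1)) k :=
    Nat.Coprime.pow_left _ (hco.coprime_dvd_left hm2)
  have := he.trans hc
  rw [hk] at this
  exact hk2.dvd_of_dvd_mul_right this

/-- The Sylow 2-subgroup of order 4 or 8 and a moved subgroup give a Hall subgroup. -/
theorem hall_of_three {m e : ℕ} (he : e = 2 ∨ e = 3) (hm : m = 2 ^ e * 3) (hdvd : m ∣ Nat.card G)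
    (hco : m.Coprime (Nat.card G / m)) (S : Sylow 2 G) (hS : Nat.card ↥(S : Subgroup G) = 2 ^ e)
    {Q : Subgroup G} (hQS : Q ≤ (S : Subgroup G)) (h4 : 4 ∣ Nat.card ↥Q) {g : G}
    (hg : g ∈ normalizer (Q : Set G)) (h3 : 3 ∣ orderOf g) :
    ∃ H : Subgroup G, Nat.card H = m := by
  haveI := Fact.mk Nat.prime_two
  set N := normalizer (Q : Set G) with hN
  have hQdvd : Nat.card ↥Q ∣ 2 ^ e := hS ▸ Subgroup.card_dvd_of_le hQS
  -- `S` normalises `Q`
  have hSN : (S : Subgroup G) ≤ N := by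
    have hidx : (Q.subgroupOf (S : Subgroup G)).index ∣ 2 := by
      have h1 := (Q.subgroupOf (S : Subgroup G)).card_mul_index
      rw [hS, Nat.card_congr (Subgroup.subgroupOfEquivOfLe hQS).toEquiv] at h1
      obtain ⟨c, hc⟩ := h4
      rw [hc, mul_assoc] at h1
      have h2 : c * (Q.subgroupOf (S : Subgroup G)).index ∣ 2 := by
        rcases he with rfl | rfl
        · exact ⟨2, by omega⟩
        · exact ⟨1, by omega⟩
      exact (Dvd.intro_left _ rfl).trans h2
    rw [hN, ← Subgroup.normal_subgroupOf_iff_le_normalizer hQS]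
    rcases (Nat.dvd_prime Nat.prime_two).1 hidx with h | h
    · rw [Subgroup.index_eq_one.1 h]; infer_instance
    · exact Subgroup.normal_of_index_eq_two h
  have hdvdN : m ∣ Nat.card ↥N := by
    rw [hm]
    refine Nat.Coprime.mul_dvd_of_dvd_of_dvd (Nat.Coprime.pow_left _ (by norm_num))
      (hS ▸ Subgroup.card_dvd_of_le hSN) (h3.trans ?_)
    exact Subgroup.orderOf_dvd_natCard N hg
  -- `N` is solvable
  refine hall_of_solvable N ?_ hdvdN hco
  have hQN : Q ≤ N := Subgroup.le_normalizer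
  haveI : (Q.subgroupOf N).Normal := Subgroup.normal_in_normalizer
  refine isSolvable_of_quotient (Q.subgroupOf N) (isSolvable_of_isPGroup (p := 2)
    ((S.isPGroup'.to_le hQS).of_equiv (Subgroup.subgroupOfEquivOfLe hQN).symm))
    (isSolvable_of_not_four_dvd fun h => ?_)
  have h1 := Subgroup.card_eq_card_quotient_mul_card_subgroup (Q.subgroupOf N)
  rw [Nat.card_congr (Subgroup.subgroupOfEquivOfLe hQN).toEquiv] at h1
  have h16 : 2 ^ (3 + 1) ∣ Nat.card ↥N := by
    rw [h1, show (2 : ℕ) ^ (3 + 1) = 4 * 4 by norm_num]; exact mul_dvd_mul h h4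
  have h2m := not_two_mul_dvd (m := m) (by rcases he with rfl | rfl <;> simp [hm]) hdvd hco
    (Subgroup.card_subgroup_dvd_card N) h16
  rcases he with rfl | rfl <;> rw [hm] at h2m <;> norm_num at h2m

theorem sylow_card {m e : ℕ} (he : e = 2 ∨ e = 3) {k : ℕ} (hk : Odd k) (hm : m = 2 ^ e * k)
    (hdvd : m ∣ Nat.card G) (hco : m.Coprime (Nat.card G / m)) (S : Sylow 2 G) :
    Nat.card ↥(S : Subgroup G) = 2 ^ e := by
  haveI := Fact.mk Nat.prime_two
  obtain ⟨j, hj⟩ := IsPGroup.iff_card.1 S.isPGroup'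
  have h1 : 2 ^ e ∣ Nat.card ↥(S : Subgroup G) :=
    S.pow_dvd_card_of_pow_dvd_card ((Dvd.intro k hm.symm).trans hdvd)
  rw [hj] at h1 ⊢
  have h2 : e ≤ j := (Nat.pow_dvd_pow_iff_le_right one_lt_two).1 h1
  by_contra hne
  have h3 : e + 1 ≤ j := by
    rcases Nat.lt_or_ge e j with h | h
    · omega
    · exact absurd (congrArg (2 ^ ·) (le_antisymm h h2)) hne
  have h4 := not_two_mul_dvd (m := m) ((dvd_pow_self 2 (by omega)).trans (Dvd.intro k hm.symm))
    hdvd hco (c := Nat.card ↥(S : Subgroup G)) (Subgroup.card_subgroup_dvd_card _)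
    (by rw [hj]; exact Nat.pow_dvd_pow 2 h3)
  rw [hm, pow_succ] at h4
  exact (Nat.not_even_iff_odd.2 hk) (even_iff_two_dvd.2
    ((Nat.mul_dvd_mul_iff_left (by positivity)).1 h4))

/-- 12 is a Hall number. -/
theorem twelve (hdvd : 12 ∣ Nat.card G) (hco : Nat.Coprime 12 (Nat.card G / 12)) :
    ∃ H : Subgroup G, Nat.card H = 12 := by
  by_cases hs : Group.IsSolvable G
  · exact hall_of_solvable ⊤ (@Group.isSolvable_of_isSolvable_injective _ _ _ _
      (Subgroup.topEquiv (G := G)).toMonoidHom (Subgroup.topEquiv (G := G)).injective hs)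
      (by rwa [Subgroup.card_top]) hco
  haveI := Fact.mk Nat.prime_two
  obtain ⟨S⟩ := (inferInstance : Nonempty (Sylow 2 G))
  have hS := sylow_card (m := 12) (e := 2) (Or.inl rfl) (k := 3) (by decide) (by norm_num) hdvd hco S
  obtain ⟨Q, hQS, g, hg, ho, hgC⟩ := exists_moving hs S
  have hQ4 : Nat.card ↥Q ∣ 4 := by
    have := Subgroup.card_dvd_of_le hQS
    rwa [hS] at this
  rcases three_or_seven (hQ4.trans (by norm_num)) hg ho hgC with ⟨h4, h3⟩ | ⟨h8, -⟩
  · exact hall_of_three (Or.inl rfl) (by norm_num) hdvd hco S hS hQS h4 hg h3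
  · rw [h8] at hQ4; norm_num at hQ4

end Cfsg.Agent.HallNum96
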