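import Cfsg.Agent.HallNum96.Twelve
import Cfsg.Agent.S0217
import Cfsg.Agent.S2202
import Cfsg.Agent.BenderCons37.Discharge
import Cfsg.Agent.Bender27.Main
import Cfsg.Agent.Lib.Involution.StronglyEmbedded
import Cfsg.Agent.TwoFusionB.QDSimple
import Cfsg.Agent.SL2Tor.SylowTori

/-!
# 24 is a Hall number
-/

set_option autoImplicit false

namespace Cfsg.Agent.HallNum96

open Subgroup

variable {G : Type} [Group G] [Finite G]

/-- The odd part of `C(a)`. -/
def theta (a : G) : Subgroup G := Cfsg.centralizerPPrimeCore 2 a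

theorem theta_le (a : G) : theta a ≤ centralizer ({a} : Set G) := map_subtype_le _

theorem orderOf_conj_eq (g x : G) : orderOf (g * x * g⁻¹) = orderOf x :=
  orderOf_injective (MulAut.conj g).toMonoidHom (MulAut.conj g).injective x

/-- The nonsolvable part of the proof, with trivial odd core. -/
theorem twentyFour_core (hdvd : 24 ∣ Nat.card G) (hco : Nat.Coprime 24 (Nat.card G / 24))
    (hO : Cfsg.oddCore G = ⊥) (hs : ¬ Group.IsSolvable G) :
    ∃ H : Subgroup G, Nat.card H = 24 := by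
  classical
  haveI := Fact.mk Nat.prime_two
  by_contra hno
  obtain ⟨S⟩ := (inferInstance : Nonempty (Sylow 2 G))
  have hS : Nat.card ↥(S : Subgroup G) = 8 := by
    have h := sylow_card (m := 24) (e := 3) (Or.inr rfl) (k := 3) (by decide) (by norm_num) hdvd hco S
    simpa using h
  have h3case : ∀ (Q : Subgroup G) (g : G), Q ≤ (S : Subgroup G) → 4 ∣ Nat.card ↥Q →
      g ∈ normalizer (Q : Set G) → 3 ∣ orderOf g → False := fun Q g hQ h4 hg h3 =>
    hno (hall_of_three (Or.inr rfl) (by norm_num) hdvd hco S (by rw [hS]; norm_num) hQ h4 hg h3)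
  have hdiv : ∀ Q : Subgroup G, Q ≤ (S : Subgroup G) → Nat.card ↥Q ∣ 8 := fun Q hQ => by
    rw [← hS]; exact Subgroup.card_dvd_of_le hQ
  obtain ⟨Q, hQS, g, hgN, hgo, hgC⟩ := exists_moving hs S
  rcases three_or_seven (hdiv Q hQS) hgN hgo hgC with ⟨h4, h3⟩ | ⟨h8, hfree, htr⟩
  · exact h3case Q g hQS h4 hgN h3
  have hQe : Q = (S : Subgroup G) := Subgroup.eq_of_le_of_card_ge hQS (by rw [h8, hS])
  subst hQe
  -- `S` is elementary abelian
  obtain ⟨t₀, ht₀⟩ := exists_prime_orderOf_dvd_card' 2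
    (show 2 ∣ Nat.card ↥(S : Subgroup G) by rw [hS]; norm_num)
  have hexp : ∀ x ∈ (S : Subgroup G), x * x = 1 := by
    intro x hx
    by_cases hx1 : x = 1
    · rw [hx1, mul_one]
    have ht : (t₀ : G) ≠ 1 := fun e => by
      rw [← Subgroup.orderOf_coe, e, orderOf_one] at ht₀; norm_num at ht₀
    obtain ⟨n, hn⟩ := htr _ t₀.2 ht x hx hx1
    have ho : orderOf x = 2 := by
      rw [← hn, orderOf_conj_eq, Subgroup.orderOf_coe, ht₀]
    rw [← sq, ← ho, pow_orderOf_eq_one]
  have hcomm : ∀ x ∈ (S : Subgroup G), ∀ y ∈ (S : Subgroup G), x * y = y * x := by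
    intro x hx y hy
    have h1 := hexp _ (mul_mem hx hy)
    have hxi : x⁻¹ = x := inv_eq_of_mul_eq_one_right (hexp x hx)
    have hyi : y⁻¹ = y := inv_eq_of_mul_eq_one_right (hexp y hy)
    calc x * y = (x * y)⁻¹ := (inv_eq_of_mul_eq_one_right h1).symm
      _ = y * x := by rw [mul_inv_rev, hxi, hyi]
  have hSC : ∀ a ∈ (S : Subgroup G), (S : Subgroup G) ≤ centralizer ({a} : Set G) :=
    fun a ha x hx => mem_centralizer_singleton_iff.2 (hcomm x hx a ha)
  have ho2 : ∀ a ∈ (S : Subgroup G), a ≠ 1 → orderOf a = 2 := fun a ha ha1 =>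
    orderOf_eq_prime (by rw [sq]; exact hexp a ha) ha1
  -- the centralisers have normal 2-complements
  have hK : ∀ a ∈ (S : Subgroup G), a ≠ 1 → ∀ c ∈ centralizer ({a} : Set G),
      (Odd (orderOf c) → c ∈ theta a) ∧ ∃ k ∈ theta a, ∃ s ∈ (S : Subgroup G), c = k * s := by
    intro a ha ha1
    set C := centralizer ({a} : Set G) with hC
    set P : Sylow 2 ↥C := S.subtype (hSC a ha) with hP
    have hPmem : ∀ z : ↥C, z ∈ (P : Subgroup ↥C) ↔ (z : G) ∈ (S : Subgroup G) := fun z =>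
      Subgroup.mem_subgroupOf
    rcases complement_or_moving P with ⟨K, hKn, hKc⟩ | ⟨Q', hQ', y, hy, hyo, hyC⟩
    · intro c hc
      have hKodd := odd_of_complement P hKc
      have hKle : K.map C.subtype ≤ theta a := Subgroup.map_mono (le_sSup (show K ∈ _ from
        ⟨hKn, Nat.coprime_two_right.2 hKodd⟩))
      refine ⟨fun hodd => hKle ⟨⟨c, hc⟩, ?_, rfl⟩, ?_⟩
      · haveI := hKn
        have hq : IsPGroup 2 (↥C ⧸ K) := P.isPGroup'.of_equiv hKc.symm.QuotientMulEquiv.symm
        obtain ⟨n, hn⟩ := hq (QuotientGroup.mk ⟨c, hc⟩)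
        have h1 : orderOf (QuotientGroup.mk (s := K) ⟨c, hc⟩) ∣ orderOf c := by
          refine (orderOf_map_dvd (QuotientGroup.mk' K) ⟨c, hc⟩).trans ?_
          rw [Subgroup.orderOf_mk]
        have h2 : orderOf (QuotientGroup.mk (s := K) ⟨c, hc⟩) ∣ 2 ^ n :=
          orderOf_dvd_of_pow_eq_one hn
        have h3 := Nat.dvd_gcd h1 h2
        rw [(Nat.Coprime.pow_right n (Nat.coprime_two_right.2 hodd)).gcd_eq_one,
          Nat.dvd_one, orderOf_eq_one_iff, QuotientGroup.eq_one_iff] at h3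
        exact h3
      · obtain ⟨⟨k, s⟩, hks⟩ := hKc.2 ⟨c, hc⟩
        exact ⟨((k : ↥C) : G), hKle ⟨_, k.2, rfl⟩, ((s : ↥C) : G), (hPmem _).1 s.2,
          (congrArg Subtype.val hks).symm⟩
    · exfalso
      set Q'' := Q'.map C.subtype ⊔ zpowers a with hQ''
      have hQ''S : Q'' ≤ (S : Subgroup G) := by
        refine sup_le ?_ (zpowers_le.2 ha)
        rintro _ ⟨z, hz, rfl⟩
        exact (hPmem z).1 (hQ' hz)
      have hya : (y : G) * a = a * y := mem_centralizer_singleton_iff.1 y.2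
      have haQ : a ∈ Q'' := le_sup_right (a := Q'.map C.subtype) (mem_zpowers a)
      have hfix : (y : G) * a * (y : G)⁻¹ = a := by rw [hya, mul_inv_cancel_right]
      have hyN : (y : G) ∈ normalizer (Q'' : Set G) := by
        refine PLocalB.mem_normalizer_of_conj_mem _ _ fun x hx => ?_
        have hm : Q''.map (MulAut.conj (y : G)).toMonoidHom ≤ Q'' := by
          rw [hQ'', Subgroup.map_sup]
          refine sup_le_sup ?_ ?_
          · rintro _ ⟨_, ⟨z, hz, rfl⟩, rfl⟩
            exact ⟨y * z * y⁻¹, (Subgroup.mem_normalizer_iff.1 hy z).1 hz, rfl⟩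
          · rw [MonoidHom.map_zpowers, zpowers_le]
            show (y : G) * a * (y : G)⁻¹ ∈ zpowers a
            rw [hfix]; exact mem_zpowers a
        exact hm ⟨x, hx, rfl⟩
      have hyC' : (y : G) ∉ centralizer (Q'' : Set G) := fun h => hyC
        (mem_centralizer_iff.2 fun z hz => Subtype.ext
          (mem_centralizer_iff.1 h (z : G) ((le_sup_left : _ ≤ Q'') ⟨z, hz, rfl⟩)))
      rcases three_or_seven (hdiv Q'' hQ''S) hyN (by rwa [Subgroup.orderOf_coe]) hyC' with
        ⟨h4, h3⟩ | ⟨-, hf, -⟩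
      · exact h3case Q'' y hQ''S h4 hyN h3
      · exact hf a haQ ha1 hfix
  have hthodd : ∀ a : G, Odd (Nat.card ↥(theta a)) := fun a =>
    Nat.coprime_two_right.1 (Signal38.centralizerPPrimeCore_card_coprime 2 a)
  have hmem : ∀ a ∈ (S : Subgroup G), a ≠ 1 → ∀ x : G,
      x ∈ theta a ↔ x ∈ centralizer ({a} : Set G) ∧ Odd (orderOf x) := by
    refine fun a ha ha1 x => ⟨fun h => ⟨theta_le a h, ?_⟩, fun h => (hK a ha ha1 x h.1).1 h.2⟩
    exact (hthodd a).of_dvd_nat (Subgroup.orderOf_dvd_natCard _ h)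
  -- the signalizer functor
  set W : Subgroup G := ⨆ b : {a : G // a ∈ (S : Subgroup G) ∧ a ≠ 1}, theta (b : G) with hW
  obtain ⟨hW2, -⟩ := S0217.result (p := 2) (S : Subgroup G) hcomm
    (fun a ha => by rw [sq]; exact hexp a ha) (by rw [hS]; norm_num) theta
    (fun a _ _ => theta_le a)
    (fun a _ _ h => (Nat.not_even_iff_odd.2 (hthodd a)) (even_iff_two_dvd.2 h))
    (fun a ha ha1 b hb x hx => by
      obtain ⟨h1, h2⟩ := (hmem a ha ha1 x).1 hx
      refine (hmem a ha ha1 _).2 ⟨mul_mem (mul_mem (hSC a ha hb) h1) (inv_mem (hSC a ha hb)), ?_⟩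
      rwa [orderOf_conj_eq])
    (fun a _ _ => isSolvable_of_odd (hthodd a))
    (fun a ha ha1 b hb hb1 x hx => (hmem b hb hb1 x).2 ⟨hx.2, ((hmem a ha ha1 x).1 hx.1).2⟩)
  have hWodd : Odd (Nat.card ↥W) := Nat.odd_iff.2 (Nat.two_dvd_ne_zero.1 hW2)
  set M := normalizer (W : Set G) with hM
  have hNS : normalizer ((S : Subgroup G) : Set G) ≤ M := by
    intro n hn
    refine PLocalB.mem_normalizer_of_conj_mem _ _ fun x hx => ?_
    have hm : W.map (MulAut.conj n).toMonoidHom ≤ W := by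
      rw [hW, Subgroup.map_iSup]
      refine iSup_le fun b => ?_
      have hb : n * (b : G) * n⁻¹ ∈ (S : Subgroup G) ∧ n * (b : G) * n⁻¹ ≠ 1 :=
        ⟨(Subgroup.mem_normalizer_iff.1 hn _).1 b.2.1, fun e => b.2.2 (conj_eq_one_iff.1 e)⟩
      refine le_trans ?_ (le_iSup (fun c : {a : G // a ∈ (S : Subgroup G) ∧ a ≠ 1} => theta (c : G))
        ⟨n * b * n⁻¹, hb⟩)
      rintro _ ⟨z, hz, rfl⟩
      obtain ⟨h1, h2⟩ := (hmem b b.2.1 b.2.2 z).1 hz
      refine (hmem _ hb.1 hb.2 _).2 ⟨mem_centralizer_singleton_iff.2 ?_, ?_⟩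
      · show n * z * n⁻¹ * (n * b * n⁻¹) = n * b * n⁻¹ * (n * z * n⁻¹)
        rw [conj_mul, conj_mul, mem_centralizer_singleton_iff.1 h1]
      · show Odd (orderOf (n * z * n⁻¹))
        rwa [orderOf_conj_eq]
    exact hm ⟨x, hx, rfl⟩
  have hSM : (S : Subgroup G) ≤ M := le_trans Subgroup.le_normalizer hNS
  have hCM : ∀ a ∈ (S : Subgroup G), a ≠ 1 → centralizer ({a} : Set G) ≤ M := by
    intro a ha ha1 c hc
    obtain ⟨k, hk, s, hs', rfl⟩ := (hK a ha ha1 c hc).2
    refine mul_mem ?_ (hSM hs')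
    exact Subgroup.le_normalizer (le_iSup (fun c : {a : G // a ∈ (S : Subgroup G) ∧ a ≠ 1} =>
      theta (c : G)) ⟨a, ha, ha1⟩ hk)
  -- `W` is trivial
  have hWbot : W = ⊥ := by
    by_contra hWne
    have hMtop : M ≠ ⊤ := fun e => by
      have hWn : W.Normal := Subgroup.normalizer_eq_top_iff.1 e
      exact hWne (le_bot_iff.1 (hO ▸ InvChar.le_oddCore hWn hWodd))
    have heven : Even (Nat.card ↥M) := even_iff_two_dvd.2
      ((show 2 ∣ Nat.card ↥(S : Subgroup G) by rw [hS]; norm_num).trans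
        (Subgroup.card_dvd_of_le hSM))
    have hconjS : ∀ t ∈ M, orderOf t = 2 →
        ∃ m ∈ M, m * t * m⁻¹ ∈ (S : Subgroup G) ∧ m * t * m⁻¹ ≠ 1 := by
      intro t htM ht
      have hp : IsPGroup 2 (zpowers (⟨t, htM⟩ : ↥M)) :=
        IsPGroup.of_card (n := 1) (by rw [Nat.card_zpowers, Subgroup.orderOf_mk, ht, pow_one])
      obtain ⟨P', hP'⟩ := hp.exists_le_sylow
      obtain ⟨c, hc⟩ := MulAction.exists_smul_eq (↥M) P' (S.subtype hSM)
      refine ⟨c, c.2, ?_, fun e => ?_⟩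
      · have h1 : c * ⟨t, htM⟩ * c⁻¹ ∈ ((S.subtype hSM : Sylow 2 ↥M) : Subgroup ↥M) := by
          rw [← hc, Sylow.coe_subgroup_smul]
          exact Subgroup.smul_mem_pointwise_smul _ (MulAut.conj c) _ (hP' (mem_zpowers _))
        exact Subgroup.mem_subgroupOf.1 h1
      · rw [conj_eq_one_iff.1 e, orderOf_one] at ht; norm_num at ht
    have hSE : Cfsg.IsStronglyEmbedded M := by
      rw [Involution.stronglyEmbedded_iff_centralizers hMtop heven]
      refine ⟨fun t htM ht c hc => ?_, fun t htM s hsM ht hs' _ => ?_⟩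
      · obtain ⟨m, hm, hmS, hm1⟩ := hconjS t htM ht
        have h1 : m * c * m⁻¹ ∈ M := hCM _ hmS hm1 (mem_centralizer_singleton_iff.2 (by
          rw [conj_mul, conj_mul, mem_centralizer_singleton_iff.1 hc]))
        simpa [mul_assoc] using mul_mem (mul_mem (inv_mem hm) h1) hm
      · obtain ⟨m, hm, hmS, hm1⟩ := hconjS t htM ht
        obtain ⟨l, hl, hlS, hl1⟩ := hconjS s hsM hs'
        obtain ⟨n, hn⟩ := htr _ hmS hm1 _ hlS hl1
        refine ⟨l⁻¹ * g ^ n * m, mul_mem (mul_mem (inv_mem hl) (pow_mem (hNS hgN) n)) hm, ?_⟩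
        calc l⁻¹ * g ^ n * m * t * (l⁻¹ * g ^ n * m)⁻¹
            = l⁻¹ * (g ^ n * (m * t * m⁻¹) * (g ^ n)⁻¹) * l := by group
          _ = s := by rw [hn]; group
    have hWM : W ≤ M := Subgroup.le_normalizer
    haveI : (W.subgroupOf M).Normal := Subgroup.normal_in_normalizer
    have h1 : W.subgroupOf M ≤ Cfsg.oddCore ↥M := InvChar.le_oddCore inferInstance
      (by rwa [Nat.card_congr (Subgroup.subgroupOfEquivOfLe hWM).toEquiv])
    refine hWne (le_bot_iff.1 (le_trans ?_
      ((BenderCons37.s1221_of Bender27.benderSplit hSE).trans hO.le)))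
    exact (Subgroup.map_subgroupOf_eq_of_le hWM).symm.le.trans (Subgroup.map_mono h1)
  -- all involution centralisers are abelian
  have hCS : ∀ a ∈ (S : Subgroup G), a ≠ 1 → centralizer ({a} : Set G) ≤ (S : Subgroup G) := by
    intro a ha ha1 c hc
    obtain ⟨k, hk, s, hs', rfl⟩ := (hK a ha ha1 c hc).2
    have hk1 : k ∈ W := le_iSup (fun c : {a : G // a ∈ (S : Subgroup G) ∧ a ≠ 1} => theta (c : G))
      ⟨a, ha, ha1⟩ hk
    rw [hWbot, Subgroup.mem_bot] at hk1
    rw [hk1, one_mul]; exact hs'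
  have hab : ∀ t : G, orderOf t = 2 → IsMulCommutative ↥(centralizer ({t} : Set G)) := by
    intro t ht
    have hp : IsPGroup 2 (zpowers t) :=
      IsPGroup.of_card (n := 1) (by rw [Nat.card_zpowers, ht, pow_one])
    obtain ⟨P', hP'⟩ := hp.exists_le_sylow
    obtain ⟨c, hc⟩ := MulAction.exists_smul_eq G P' S
    have hcS : c * t * c⁻¹ ∈ (S : Subgroup G) := by
      rw [← hc, Sylow.coe_subgroup_smul]
      exact Subgroup.smul_mem_pointwise_smul _ (MulAut.conj c) _ (hP' (mem_zpowers t))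
    have hc1 : c * t * c⁻¹ ≠ 1 := fun e => by
      rw [conj_eq_one_iff.1 e, orderOf_one] at ht; norm_num at ht
    have hin : ∀ x ∈ centralizer ({t} : Set G), c * x * c⁻¹ ∈ (S : Subgroup G) := fun x hx =>
      hCS _ hcS hc1 (mem_centralizer_singleton_iff.2 (by
        rw [conj_mul, conj_mul, mem_centralizer_singleton_iff.1 hx]))
    refine ⟨⟨fun x y => Subtype.ext ?_⟩⟩
    have h1 := hcomm _ (hin _ x.2) _ (hin _ y.2)
    rw [conj_mul, conj_mul] at h1
    exact mul_left_cancel (mul_right_cancel h1)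
  have heven : Even (Nat.card G) := even_iff_two_dvd.2 (dvd_trans (by norm_num) hdvd)
  rcases S2202.result heven hab with h | h | ⟨F, _, _, A, _, _, hchar, hA, ⟨e⟩⟩
  · haveI := h S
    obtain ⟨x, hx⟩ := IsCyclic.exists_ofOrder_eq_natCard (α := ↥(S : Subgroup G))
    have : orderOf (x : G) ∣ 2 := orderOf_dvd_of_pow_eq_one (by rw [sq]; exact hexp _ x.2)
    rw [Subgroup.orderOf_coe, hx, hS] at this
    norm_num at this
  · haveI : (S : Subgroup G).Normal := h S
    refine hs (isSolvable_of_quotient (S : Subgroup G) (isSolvable_of_isPGroup S.isPGroup')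
      (isSolvable_of_odd ?_))
    rw [← Subgroup.index_eq_card, Nat.odd_iff]
    have := S.not_dvd_index
    omega
  · obtain ⟨n, -, hq⟩ := FiniteField.card F 2
    have hc := Nat.card_congr e.toEquiv
    rw [Nat.card_prod, SL2Tor.card_sl_two', hq] at hc
    set Y := ((2 ^ (n : ℕ) - 1) * (2 ^ (n : ℕ) + 1)) * Nat.card A with hY
    have hYo : Odd Y := by
      have h2 : Even (2 ^ (n : ℕ)) := Nat.even_pow.2 ⟨even_two, n.pos.ne'⟩
      refine Nat.odd_mul.2 ⟨Nat.odd_mul.2 ⟨Nat.Even.sub_odd Nat.one_le_two_pow h2 odd_one,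
        h2.add_one⟩, hA⟩
    have hG : Nat.card G = 2 ^ (n : ℕ) * Y := by rw [hc, hY]; ring
    have hn3 : (n : ℕ) = 3 := by
      have h1 := S.pow_dvd_card_of_pow_dvd_card (n := (n : ℕ)) (Dvd.intro _ hG.symm)
      rw [hS, show (8 : ℕ) = 2 ^ 3 by norm_num, Nat.pow_dvd_pow_iff_le_right one_lt_two] at h1
      have h2 : 2 ^ 3 ∣ Nat.card G := dvd_trans (by norm_num) hdvd
      rw [hG] at h2
      have h3 : 2 ^ 3 ∣ 2 ^ (n : ℕ) :=
        (Nat.Coprime.pow_left 3 (Nat.coprime_two_left.2 hYo)).dvd_of_dvd_mul_right h2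
      rw [Nat.pow_dvd_pow_iff_le_right one_lt_two] at h3
      omega
    obtain ⟨u, hu⟩ := hdvd
    rw [hu, Nat.mul_div_cancel_left _ (by norm_num)] at hco
    have hu3 : ¬ 3 ∣ u := fun h => by
      have h' : (3 : ℕ) ∣ Nat.gcd 24 u := Nat.dvd_gcd (by norm_num) h
      rw [hco.gcd_eq_one] at h'; norm_num at h'
    apply hu3
    rw [hG, hY, hn3] at hu
    exact ⟨7 * Nat.card A, by norm_num at hu; omega⟩

/-- 24 is a Hall number. -/
theorem twentyFour (hdvd : 24 ∣ Nat.card G) (hco : Nat.Coprime 24 (Nat.card G / 24)) :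
    ∃ H : Subgroup G, Nat.card H = 24 := by
  by_cases hs : Group.IsSolvable G
  · exact hall_of_solvable ⊤ (@Group.isSolvable_of_isSolvable_injective _ _ _ _
      (Subgroup.topEquiv (G := G)).toMonoidHom (Subgroup.topEquiv (G := G)).injective hs)
      (by rwa [Subgroup.card_top]) hco
  haveI := Fact.mk Nat.prime_two
  set O := Cfsg.oddCore G with hOdef
  have hOodd : Odd (Nat.card ↥O) := InvChar.odd_oddCore
  have hOsol := isSolvable_of_odd hOodd
  by_cases h3 : 3 ∣ Nat.card ↥O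
  · obtain ⟨S⟩ := (inferInstance : Nonempty (Sylow 2 G))
    have hS := sylow_card (m := 24) (e := 3) (Or.inr rfl) (k := 3) (by decide) (by norm_num) hdvd hco S
    set L := O ⊔ (S : Subgroup G) with hL
    refine hall_of_solvable L ?_ ?_ hco
    · haveI : (O.subgroupOf L).Normal := inferInstance
      refine isSolvable_of_quotient (O.subgroupOf L) ?_ (isSolvable_of_isPGroup (p := 2) ?_)
      · exact isSolvable_of_odd
          (by rwa [Nat.card_congr (Subgroup.subgroupOfEquivOfLe (le_sup_left (b := (S : Subgroup G)))).toEquiv])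
      · refine S.isPGroup'.of_surjective ((QuotientGroup.mk' (O.subgroupOf L)).comp
          (Subgroup.inclusion le_sup_right)) fun q => ?_
        obtain ⟨⟨x, hx⟩, rfl⟩ := QuotientGroup.mk'_surjective _ q
        obtain ⟨o, ho, s, hs', rfl⟩ := Subgroup.mem_sup_of_normal_left.1 hx
        refine ⟨⟨s, hs'⟩, ?_⟩
        refine (QuotientGroup.mk'_eq_mk' _).2 ⟨⟨s⁻¹ * o * s, ?_⟩, ?_, ?_⟩
        · exact mul_mem (mul_mem (inv_mem ((le_sup_right : _ ≤ L) hs')) ((le_sup_left : _ ≤ L) ho))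
            ((le_sup_right : _ ≤ L) hs')
        · exact Subgroup.mem_subgroupOf.2 (by
            simpa using (inferInstance : O.Normal).conj_mem o ho s⁻¹)
        · refine Subtype.ext ?_
          simp [mul_assoc]
    · rw [show (24 : ℕ) = 8 * 3 by norm_num]
      refine Nat.Coprime.mul_dvd_of_dvd_of_dvd (by norm_num)
        ?_ (h3.trans (Subgroup.card_dvd_of_le le_sup_left))
      have h := Subgroup.card_dvd_of_le (le_sup_right : (S : Subgroup G) ≤ L)
      rw [hS] at h; simpa using h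
  · have hq : Nat.card G = Nat.card (G ⧸ O) * Nat.card ↥O :=
      Subgroup.card_eq_card_quotient_mul_card_subgroup O
    have hcop : Nat.Coprime 24 (Nat.card ↥O) := by
      rw [show (24 : ℕ) = 2 ^ 3 * 3 by norm_num]
      exact Nat.Coprime.mul_left (Nat.Coprime.pow_left _ (Nat.coprime_two_left.2 hOodd))
        ((Nat.Prime.coprime_iff_not_dvd (by norm_num)).2 h3)
    have hdq : 24 ∣ Nat.card (G ⧸ O) := hcop.dvd_of_dvd_mul_right (hq ▸ hdvd)
    have hcq : Nat.Coprime 24 (Nat.card (G ⧸ O) / 24) := by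
      refine hco.coprime_dvd_right (Nat.div_dvd_div hdq ?_)
      exact Dvd.intro _ hq.symm
    have hsq : ¬ Group.IsSolvable (G ⧸ O) := fun h => hs (isSolvable_of_quotient O hOsol h)
    obtain ⟨H, hH⟩ := twentyFour_core hdq hcq (TwoFusionB.oddCore_quotient_eq_bot G) hsq
    refine hall_of_solvable (H.comap (QuotientGroup.mk' O)) ?_ ?_ hco
    · haveI := hOsol
      haveI : Group.IsSolvable ↥H := Dickson.isSolvable_of_card_two_three (Or.inr (Or.inr hH))
      set L := H.comap (QuotientGroup.mk' O) with hL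
      refine Group.isSolvable_of_ker_le_range
        (Subgroup.inclusion (show O ≤ L from fun x hx => by
          show QuotientGroup.mk' O x ∈ H
          rw [show QuotientGroup.mk' O x = 1 from (QuotientGroup.eq_one_iff x).2 hx]
          exact one_mem H))
        ((QuotientGroup.mk' O).subgroupComap H) fun x hx => ?_
      exact ⟨⟨x, (QuotientGroup.eq_one_iff (x : G)).1 (congrArg Subtype.val hx)⟩, rfl⟩
    · have h1 := Subgroup.index_comap_of_surjective H (QuotientGroup.mk'_surjective O)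
      have h2 := (H.comap (QuotientGroup.mk' O)).card_mul_index
      have h3' := H.card_mul_index
      rw [h1, hq, ← h3'] at h2
      refine hH ▸ Dvd.intro (Nat.card ↥O) ?_
      refine Nat.eq_of_mul_eq_mul_right (Nat.pos_of_ne_zero (Subgroup.index_ne_zero_of_finite (H := H))) ?_
      rw [h2]; ring

end Cfsg.Agent.HallNum96
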